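import Mathlib
import Cfsg.Agent.H9.Iso2
import Cfsg.Agent.H9.LBal1
import Cfsg.Agent.S0025

/-! Isolated `p`-elements: invariant `q`-subgroups (helper9). -/

set_option autoImplicit false

open scoped commutatorElement

namespace Cfsg.H9

open Cfsg

universe u

variable {G : Type u} [Group G] [Finite G] {p q : ℕ} [Fact p.Prime] [Fact q.Prime]

theorem mem_normalizer_of_conj_mem' {K : Subgroup G} {y : G} (h : ∀ k ∈ K, y * k * y⁻¹ ∈ K) :
    y ∈ Subgroup.normalizer (K : Set G) := by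
  apply Subgroup.mem_normalizer_iff_map_conj_eq.mpr
  apply Subgroup.eq_of_le_of_card_ge
  · rintro _ ⟨k, hk, rfl⟩
    exact h k hk
  · exact (Subgroup.card_map_of_injective (MulAut.conj y).injective).ge

theorem not_dvd_index_of_max_invariant (hqp : q ≠ p) {x : G} (hx : orderOf x = p)
    (Q : Subgroup G) (hQ : IsPGroup q Q) (hxQ : x ∈ Subgroup.normalizer (Q : Set G))
    (hZ : InZStar p (⟨x, hxQ⟩ : ↥(Subgroup.normalizer (Q : Set G))))
    (hmax : ∀ R : Subgroup G, IsPGroup q R → x ∈ Subgroup.normalizer (R : Set G) → Q ≤ R → R = Q) :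
    ¬ q ∣ Q.index := by
  classical
  have hp : p.Prime := Fact.out
  have hq : q.Prime := Fact.out
  set N : Subgroup G := Subgroup.normalizer (Q : Set G) with hN
  set π := QuotientGroup.mk' (pPrimeCore p ↥N) with hπ
  have hQbar : IsPGroup q ((Q.subgroupOf N).map π) := (hQ.comap_subtype).map π
  obtain ⟨Rbar, hRbar⟩ := hQbar.exists_le_sylow
  set R' : Subgroup ↥N := (Rbar : Subgroup _).comap π with hR'
  set R : Subgroup G := R'.map N.subtype with hR
  have hQR : Q ≤ R := by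
    intro y hy
    refine ⟨⟨y, Subgroup.le_normalizer hy⟩, ?_, rfl⟩
    apply hRbar
    exact ⟨_, Subgroup.mem_subgroupOf.mpr hy, rfl⟩
  have hRN : R ≤ N := Subgroup.map_subtype_le R'
  have hRcop : (Nat.card R).Coprime p := by
    rw [hR, Nat.card_congr (R'.equivMapOfInjective _ (Subgroup.subtype_injective _)).symm.toEquiv]
    apply Nat.Coprime.coprime_dvd_left (card_comap_dvd π (Rbar : Subgroup _))
    apply Nat.Coprime.mul_left
    · obtain ⟨n, hn⟩ := Rbar.2.exists_card_eq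
      rw [hn]
      exact Nat.Coprime.pow_left n ((Nat.coprime_primes hq hp).mpr hqp)
    · rw [hπ, QuotientGroup.ker_mk']
      exact pPrimeCore_coprime p
  have hxR : x ∈ Subgroup.normalizer (R : Set G) := by
    apply mem_normalizer_of_conj_mem'
    rintro _ ⟨r, hr, rfl⟩
    refine ⟨⟨x, hxQ⟩ * r * ⟨x, hxQ⟩⁻¹, ?_, rfl⟩
    have h1 := hZ r
    have h2 : π r * π ⟨x, hxQ⟩ * (π r)⁻¹ * (π ⟨x, hxQ⟩)⁻¹ = 1 := by
      rw [← map_inv, ← map_inv, ← map_mul, ← map_mul, ← map_mul]
      exact (QuotientGroup.eq_one_iff _).mpr h1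
    have h3 : π (⟨x, hxQ⟩ * r * ⟨x, hxQ⟩⁻¹) = π r := by
      rw [map_mul, map_mul, map_inv]
      calc π ⟨x, hxQ⟩ * π r * (π ⟨x, hxQ⟩)⁻¹
          = (π r * π ⟨x, hxQ⟩ * (π r)⁻¹ * (π ⟨x, hxQ⟩)⁻¹)⁻¹ * π r := by group
        _ = π r := by rw [h2]; simp
    show π (⟨x, hxQ⟩ * r * ⟨x, hxQ⟩⁻¹) ∈ (Rbar : Subgroup _)
    rw [h3]
    exact hr
  have hzR : Subgroup.zpowers x ≤ Subgroup.normalizer (R : Set G) := by
    rw [Subgroup.zpowers_le]; exact hxR
  have hzQ : Subgroup.zpowers x ≤ Subgroup.normalizer (Q : Set G) := by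
    rw [Subgroup.zpowers_le]; exact hxQ
  have hcop : (Nat.card (Subgroup.zpowers x)).Coprime (Nat.card R) := by
    rw [Nat.card_zpowers, hx]; exact hRcop.symm
  obtain ⟨P, hQP, hxP⟩ := Cfsg.Agent.S0025.result (Subgroup.zpowers x) R hzR hcop
    (Or.inl inferInstance) q Q hQR hQ hzQ
  have hPQ : (P : Subgroup ↥R).map R.subtype = Q :=
    hmax _ (P.2.map _) (hxP (Subgroup.mem_zpowers x)) hQP
  have h1 : Q.relIndex R = (P : Subgroup ↥R).index := by
    have : Q.subgroupOf R = (P : Subgroup ↥R) := by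
      rw [← hPQ]
      exact Subgroup.comap_map_eq_self_of_injective (Subgroup.subtype_injective _) _
    rw [← this]; rfl
  have h2 : R.relIndex N = (Rbar : Subgroup (↥N ⧸ pPrimeCore p ↥N)).index := by
    have : R.subgroupOf N = R' := by
      rw [hR]
      exact Subgroup.comap_map_eq_self_of_injective (Subgroup.subtype_injective _) _
    rw [Subgroup.relIndex, this, hR']
    exact Subgroup.index_comap_of_surjective _ (QuotientGroup.mk'_surjective _)
  have h3 : ¬ q ∣ Q.relIndex N := by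
    rw [← Subgroup.relIndex_mul_relIndex Q R N hQR hRN, h1, h2, hq.dvd_mul]
    rintro (h | h)
    · exact P.not_dvd_index h
    · exact Rbar.not_dvd_index h
  obtain ⟨n, hn⟩ := hQ.exists_card_eq
  have h4 := Sylow.card_quotient_normalizer_modEq_card_quotient hn
  intro h5
  apply h3
  exact (h4.dvd_iff (dvd_refl q)).mpr h5

end Cfsg.H9
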