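import Mathlib
import Cfsg.Prelude.Def_Local
import Cfsg.Agent.H9.LBal6

/-!
# `p`-constraint, III (helper library of helper9)
-/

set_option autoImplicit false
set_option linter.style.haveILetI false
set_option linter.unusedSectionVars false

open scoped commutatorElement

namespace Cfsg.H9

universe u

section
variable {G : Type u} [Group G] [Finite G] {p : ℕ} [Fact p.Prime]

theorem centralizer_subgroupOf {T H : Subgroup G} (hTH : T ≤ H) :
    Subgroup.centralizer ((T.subgroupOf H : Subgroup ↥H) : Set ↥H) =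
      (Subgroup.centralizer (T : Set G)).subgroupOf H := by
  ext x
  rw [Subgroup.mem_centralizer_iff, Subgroup.mem_subgroupOf, Subgroup.mem_centralizer_iff]
  constructor
  · intro h t ht
    exact congrArg Subtype.val (h ⟨t, hTH ht⟩ ht)
  · intro h t ht
    exact Subtype.ext (h t ht)

theorem wOf_eq_coreOf_of_pLayer_eq_bot {C : Subgroup G} (h : pLayer p ↥C = ⊥) :
    wOf p C = coreOf p C := by
  unfold wOf coreOf
  rw [pPrimeLayer_eq_sup, h, bot_sup_eq]

theorem pLayer_eq_bot_of_centralizer (T : Subgroup G) [hTn : T.Normal] (hT : IsPGroup p ↥T)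
    (h : pLayer p ↥(Subgroup.centralizer (T : Set G)) = ⊥) : pLayer p G = ⊥ := by
  unfold pLayer
  rw [sSup_eq_bot]
  intro J hJ
  exfalso
  have hJ' : IsPComponent p J := hJ
  have hCn : (Subgroup.centralizer (T : Set G)).Normal := inferInstance
  have h1 : pPrimeLayer p G ≤ Subgroup.centralizer (T : Set G) :=
    Subgroup.commutator_eq_bot_iff_le_centralizer.mp (pPrimeLayer_comm_normal_pGroup hTn hT)
  have h2 := pPrimeLayer_le_wOf hCn.isSubnormal h1
  rw [wOf_eq_coreOf_of_pLayer_eq_bot h] at h2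
  have h3 : J ≤ coreOf p (Subgroup.centralizer (T : Set G)) :=
    ((pcomp_le_pLayer hJ').trans pLayer_le_pPrimeLayer).trans h2
  have h4 : (Nat.card ↥J).Coprime p :=
    Nat.Coprime.coprime_dvd_left (Subgroup.card_dvd_of_le h3) (coreOf_coprime _)
  exact (Nat.Prime.coprime_iff_not_dvd (Fact.out (p := p.Prime))).mp h4.symm (pcomp_dvd_card hJ')

theorem pLayer_normalizer_eq_bot_of_centralizer {T : Subgroup G} (hT : IsPGroup p ↥T)
    (h : pLayer p ↥(Subgroup.centralizer (T : Set G)) = ⊥) :
    pLayer p ↥(Subgroup.normalizer (T : Set G)) = ⊥ := by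
  set N := Subgroup.normalizer (T : Set G) with hN
  haveI : (T.subgroupOf N).Normal :=
    (Subgroup.normal_subgroupOf_iff_le_normalizer Subgroup.le_normalizer).mpr le_rfl
  apply pLayer_eq_bot_of_centralizer (T.subgroupOf N)
    (hT.comap_of_injective N.subtype (Subgroup.subtype_injective _))
  rw [centralizer_subgroupOf Subgroup.le_normalizer]
  exact pLayer_eq_bot_of_mulEquiv
    (Subgroup.subgroupOfEquivOfLe (Subgroup.centralizer_le_normalizer _)).symm h

/-- S3247 -/
theorem isPConstrained_local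
    (h : (∀ M : Subgroup G, (∃ T : Subgroup G, IsPGroup p ↥T ∧ T ≠ ⊥ ∧
          M = Subgroup.normalizer (T : Set G)) → M ≠ ⊤ →
        (∀ M' : Subgroup G, (∃ T' : Subgroup G, IsPGroup p ↥T' ∧ T' ≠ ⊥ ∧
          M' = Subgroup.normalizer (T' : Set G)) → M' ≠ ⊤ → M ≤ M' → M = M') →
        IsPConstrained p ↥M) ∨
      (∀ x : G, orderOf x = p → IsPConstrained p ↥(Subgroup.centralizer ({x} : Set G))))
    (T : Subgroup G) (hT : IsPGroup p ↥T) (hT1 : T ≠ ⊥)
    (hTG : Subgroup.normalizer (T : Set G) ≠ ⊤) :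
    IsPConstrained p ↥(Subgroup.normalizer (T : Set G)) := by
  rcases h with h | h
  · set N := Subgroup.normalizer (T : Set G) with hN
    let 𝒮 : Set (Subgroup G) := {M | (∃ T' : Subgroup G, IsPGroup p ↥T' ∧ T' ≠ ⊥ ∧
      M = Subgroup.normalizer (T' : Set G)) ∧ M ≠ ⊤ ∧ N ≤ M}
    have hne : 𝒮.Nonempty := ⟨N, ⟨T, hT, hT1, rfl⟩, hTG, le_rfl⟩
    obtain ⟨M, ⟨hM1, hM2, hM3⟩, hmax⟩ := (wellFounded_gt (α := Subgroup G)).has_min 𝒮 hne
    have hMc : IsPConstrained p ↥M := by
      apply h M hM1 hM2
      intro M' h1 h2 h3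
      by_contra hne'
      exact hmax M' ⟨h1, h2, hM3.trans h3⟩ (lt_of_le_of_ne h3 hne')
    have hTM : T ≤ M := Subgroup.le_normalizer.trans hM3
    have h1 := (isPConstrained_normalizer_centralizer hMc (T.subgroupOf M)
      (hT.comap_of_injective M.subtype (Subgroup.subtype_injective _))).1
    rw [isPConstrained_iff] at h1 ⊢
    rw [← Subgroup.subgroupOf_normalizer_eq hTM] at h1
    exact pLayer_eq_bot_of_mulEquiv (Subgroup.subgroupOfEquivOfLe hM3) h1
  · obtain ⟨t, htT, hto, htc⟩ := exists_central_order_p hT hT1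
    set C := Subgroup.centralizer ({t} : Set G) with hC
    have hTC : T ≤ C := by
      intro x hx
      rw [hC, Subgroup.mem_centralizer_singleton_iff]
      exact (htc x hx).symm
    have hCC : Subgroup.centralizer (T : Set G) ≤ C := by
      intro x hx
      rw [hC, Subgroup.mem_centralizer_singleton_iff]
      exact (Subgroup.mem_centralizer_iff.mp hx t htT).symm
    have h1 := (isPConstrained_normalizer_centralizer (h t hto) (T.subgroupOf C)
      (hT.comap_of_injective C.subtype (Subgroup.subtype_injective _))).2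
    rw [isPConstrained_iff] at h1 ⊢
    rw [centralizer_subgroupOf hTC] at h1
    exact pLayer_normalizer_eq_bot_of_centralizer hT
      (pLayer_eq_bot_of_mulEquiv (Subgroup.subgroupOfEquivOfLe hCC) h1)

end

end Cfsg.H9
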