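import Mathlib
import Cfsg.Prelude.Def_Local
import Cfsg.Agent.H9.PConstr2
import Cfsg.Agent.Lib.Helper23.PSolv
import Cfsg.Agent.H20.PSolvHall

/-!
# `p`-solvable groups (helper library of helper9)
-/

set_option autoImplicit false
set_option linter.style.haveILetI false
set_option linter.unusedSectionVars false

open scoped commutatorElement

namespace Cfsg.H9

universe u

section
variable {G : Type u} [Group G] [Finite G] {p : ℕ} [Fact p.Prime]

theorem pPrimeCore_quotient_comap (N : Subgroup G) [N.Normal] :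
    pPrimeCore p (G ⧸ (pPrimeCore p (G ⧸ N)).comap (QuotientGroup.mk' N)) = ⊥ := by
  set M := (pPrimeCore p (G ⧸ N)).comap (QuotientGroup.mk' N) with hM
  have hNM : N ≤ M := by
    intro x hx
    rw [hM, Subgroup.mem_comap]
    have : QuotientGroup.mk' N x = 1 := (QuotientGroup.eq_one_iff x).mpr hx
    rw [this]; exact one_mem _
  have hmap : M.map (QuotientGroup.mk' N) = pPrimeCore p (G ⧸ N) :=
    Subgroup.map_comap_eq_self_of_surjective (QuotientGroup.mk'_surjective N) _
  let e1 : ((G ⧸ N) ⧸ M.map (QuotientGroup.mk' N)) ≃* G ⧸ M :=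
    QuotientGroup.quotientQuotientEquivQuotient N M hNM
  let e2 : ((G ⧸ N) ⧸ pPrimeCore p (G ⧸ N)) ≃* ((G ⧸ N) ⧸ M.map (QuotientGroup.mk' N)) :=
    QuotientGroup.quotientMulEquivOfEq hmap.symm
  rw [← map_pPrimeCore p (e2.trans e1), pPrimeCore_quotient, Subgroup.map_bot]

theorem upperPSeries_odd (k : ℕ) : (upperPSeries p G (2 * k + 1)).1 =
    (pPrimeCore p (G ⧸ (upperPSeries p G (2 * k)).1)).comap (QuotientGroup.mk' _) := by
  rw [upperPSeries]
  simp

theorem upperPSeries_even (k : ℕ) : (upperPSeries p G (2 * k + 2)).1 =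
    (pCore p (G ⧸ (upperPSeries p G (2 * k + 1)).1)).comap (QuotientGroup.mk' _) := by
  rw [upperPSeries]
  have : ¬ Even (2 * k + 1) := by simp
  simp [this]

theorem pPrimeCore_quotient_of_eq {U V : Subgroup G} [U.Normal] [V.Normal] (h : U = V)
    (hV : pPrimeCore p (G ⧸ V) = ⊥) : pPrimeCore p (G ⧸ U) = ⊥ := by
  rw [← map_pPrimeCore p (QuotientGroup.quotientMulEquivOfEq h.symm), hV, Subgroup.map_bot]

theorem pPrimeCore_quotient_upperPSeries_odd (k : ℕ) :
    pPrimeCore p (G ⧸ (upperPSeries p G (2 * k + 1)).1) = ⊥ :=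
  pPrimeCore_quotient_of_eq (upperPSeries_odd k) (pPrimeCore_quotient_comap _)

/-- S0634 -/
theorem centralizer_upperPSeries_le (hsol : IsPSolvable p G) (k : ℕ) :
    Subgroup.centralizer ((((upperPSeries p G (2 * k + 2)).1.map
      (QuotientGroup.mk' (upperPSeries p G (2 * k + 1)).1)) :
        Subgroup (G ⧸ (upperPSeries p G (2 * k + 1)).1)) :
          Set (G ⧸ (upperPSeries p G (2 * k + 1)).1)) ≤
      (upperPSeries p G (2 * k + 2)).1.map (QuotientGroup.mk' (upperPSeries p G (2 * k + 1)).1) := by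
  rw [upperPSeries_even k,
    Subgroup.map_comap_eq_self_of_surjective (QuotientGroup.mk'_surjective _)]
  exact Cfsg.Agent.Lib.Helper23.centralizer_pCore_le_of_isPSolvable p
    (Cfsg.Agent.H20.isPSolvable_quotient Fact.out hsol _) (pPrimeCore_quotient_upperPSeries_odd k)

theorem isPSolvable_of_surjective {G' : Type u} [Group G'] (f : G →* G')
    (hf : Function.Surjective f) (hs : IsPSolvable p G) : IsPSolvable p G' := by
  obtain ⟨n, H, h0, hn, hmono, hnorm, hstep⟩ := hs
  refine ⟨n, fun i => (H i).map f, ?_, ?_, ?_, ?_, ?_⟩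
  · simp only [h0, Subgroup.map_bot]
  · simp only [hn]
    rw [← MonoidHom.range_eq_map, MonoidHom.range_eq_top]
    exact hf
  · intro i j hij
    exact Subgroup.map_mono (hmono hij)
  · intro i
    exact (hnorm i).map _ hf
  · intro i
    have := hnorm i.castSucc
    have hd := Cfsg.Agent.H20.relIndex_map_dvd f
      (hmono (Fin.castSucc_le_succ i) : H i.castSucc ≤ H i.succ)
    rcases hstep i with ⟨m, hm⟩ | hc
    · left
      rw [hm] at hd
      obtain ⟨k, -, hk⟩ := (Nat.dvd_prime_pow Fact.out).1 hd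
      exact ⟨k, hk⟩
    · right
      exact Nat.Coprime.coprime_dvd_left hd hc

theorem pLayer_eq_bot_of_isPSolvable (hs : IsPSolvable p G) : pLayer p G = ⊥ := by
  rw [pLayer_eq_bot_iff_centralizer]
  exact Cfsg.Agent.Lib.Helper23.centralizer_pCore_le_of_isPSolvable p
    (Cfsg.Agent.H20.isPSolvable_quotient Fact.out hs _) (pPrimeCore_quotient p)

theorem isPConstrained_of_isPSolvable (hs : IsPSolvable p G) : IsPConstrained p G :=
  isPConstrained_iff.mpr (pLayer_eq_bot_of_isPSolvable hs)

local notation "π" => QuotientGroup.mk' (pPrimeCore p G)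

theorem map_centralizer_sylow (T : Subgroup G) (hT : T = pPrimePCore p G) (P : Sylow p ↥T) :
    (Subgroup.centralizer (((P : Subgroup ↥T).map T.subtype : Subgroup G) : Set G)).map π =
    Subgroup.centralizer (pCore p (G ⧸ pPrimeCore p G) : Set (G ⧸ pPrimeCore p G)) := by
  have hmap := map_sylow_pPrimePCore T hT P
  set R := pCore p (G ⧸ pPrimeCore p G) with hR
  set P' := (P : Subgroup ↥T).map T.subtype with hP'
  have hP'p : IsPGroup p P' := P.2.map _
  apply le_antisymm
  · rintro _ ⟨c, hc, rfl⟩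
    rw [Subgroup.mem_centralizer_iff]
    intro gbar hg
    rw [SetLike.mem_coe, ← hmap] at hg
    obtain ⟨g, hg, rfl⟩ := hg
    rw [← map_mul, ← map_mul, Subgroup.mem_centralizer_iff.mp hc g hg]
  · intro cbar hc
    obtain ⟨c, rfl⟩ := QuotientGroup.mk'_surjective _ cbar
    have hx : ∀ g ∈ P', ∀ n ∈ pPrimeCore p G, ∃ n' ∈ pPrimeCore p G,
        g * (c * n) * g⁻¹ = c * n' := by
      intro g hg n hn
      refine ⟨c⁻¹ * (g * (c * n) * g⁻¹), ?_, by group⟩
      rw [← QuotientGroup.eq_one_iff]
      show π (c⁻¹ * (g * (c * n) * g⁻¹)) = 1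
      have hgR : π g ∈ R := hmap ▸ ⟨g, hg, rfl⟩
      have hcomm : π g * π c = π c * π g := Subgroup.mem_centralizer_iff.mp hc _ hgR
      have hn1 : π n = 1 := (QuotientGroup.eq_one_iff n).mpr hn
      simp only [map_mul, map_inv, hn1, mul_one]
      rw [hcomm]; group
    obtain ⟨n, hn, hfix⟩ := exists_fixed_in_coset hP'p not_dvd_card_pPrimeCore c hx
    have hcn : c * n ∈ Subgroup.centralizer (P' : Set G) := by
      rw [Subgroup.mem_centralizer_iff]
      intro g hg
      calc g * (c * n) = (g * (c * n) * g⁻¹) * g := by group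
        _ = c * n * g := by rw [hfix g hg]
    refine ⟨c * n, hcn, ?_⟩
    rw [map_mul, (QuotientGroup.eq_one_iff n).mpr hn |> fun h => (h : π n = 1), mul_one]

/-- if `O_{p'}(X) = 1` and `C_X(O_p(X))` is `p`-solvable then it lies in `O_p(X)` -/
theorem centralizer_pCore_le_of_isPSolvable_centralizer (h0 : pPrimeCore p G = ⊥)
    (hs : IsPSolvable p ↥(Subgroup.centralizer (pCore p G : Set G))) :
    Subgroup.centralizer (pCore p G : Set G) ≤ pCore p G := by
  set D := Subgroup.centralizer (pCore p G : Set G) with hD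
  have hDn : D.Normal := inferInstance
  have h1 : pPrimeCore p ↥D = ⊥ := by
    have := map_pPrimeCore_subnormal p hDn.isSubnormal
    rw [h0, bot_inf_eq] at this
    exact (Subgroup.map_eq_bot_iff_of_injective _ (Subgroup.subtype_injective _)).mp this
  have h2 := Cfsg.Agent.Lib.Helper23.centralizer_pCore_le_of_isPSolvable p hs h1
  have h3 : (pCore p ↥D).map D.subtype = pCore p G ⊓ D := map_pCore_subnormal p hDn.isSubnormal
  intro d hd
  have h4 : (⟨d, hd⟩ : ↥D) ∈ Subgroup.centralizer (pCore p ↥D : Set ↥D) := by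
    rw [Subgroup.mem_centralizer_iff]
    intro x hx
    have hx' : (x : G) ∈ pCore p G :=
      (Subgroup.mem_inf.mp (h3.le (Subgroup.mem_map_of_mem D.subtype hx))).1
    apply Subtype.ext
    exact Subgroup.mem_centralizer_iff.mp hd _ hx'
  have h5 : d ∈ (pCore p ↥D).map D.subtype := ⟨⟨d, hd⟩, h2 h4, rfl⟩
  rw [h3] at h5
  exact (Subgroup.mem_inf.mp h5).1

/-- S0629 -/
theorem isPConstrained_of_isPSolvable_centralizer (P : Sylow p ↥(pPrimePCore p G))
    (hsol : IsPSolvable p ↥(Subgroup.centralizer (((P : Subgroup ↥(pPrimePCore p G)).map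
      (pPrimePCore p G).subtype : Subgroup G) : Set G))) : IsPConstrained p G := by
  rw [isPConstrained_iff, pLayer_eq_bot_iff_centralizer]
  apply centralizer_pCore_le_of_isPSolvable_centralizer (pPrimeCore_quotient p)
  have hmap := map_centralizer_sylow _ rfl P
  set C := Subgroup.centralizer (((P : Subgroup ↥(pPrimePCore p G)).map
      (pPrimePCore p G).subtype : Subgroup G) : Set G) with hC
  have h1 : IsPSolvable p ↥(C.map π) :=
    isPSolvable_of_surjective ((π).subgroupMap C) ((π).subgroupMap_surjective C) hsol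
  rwa [hmap] at h1

end

end Cfsg.H9
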